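import Mathlib
import Cfsg.Agent.Gl23.Sim
import Cfsg.Agent.Perm.SieveChk

/-!
A group of order `12096` without elements of order `14`, `21`, `9` has a simple normal subgroup
of order `6048` with trivial centraliser.
-/

set_option autoImplicit false

namespace Cfsg.Agent.U33

open Cfsg.Agent.Core Cfsg.Agent.Block Cfsg.Agent.Gl23 Subgroup

variable {G : Type*} [Group G] [Finite G]

theorem p1_quot [Nontrivial G] : ∃ (N : Subgroup G) (_ : N.Normal), IsSimpleGroup (G ⧸ N) := by
  obtain ⟨N, ⟨hN, hN1⟩, hmax⟩ := Set.Finite.exists_maximal (Set.toFinite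
    {N : Subgroup G | N.Normal ∧ N ≠ ⊤}) ⟨⊥, inferInstance, bot_ne_top⟩
  refine ⟨N, hN, ?_⟩
  haveI : Nontrivial (G ⧸ N) := QuotientGroup.nontrivial_iff.2 hN1
  refine ⟨fun K hK => or_iff_not_imp_right.2 fun h => ?_⟩
  have h1 : N ≤ K.comap (QuotientGroup.mk' N) := fun x hx => by
    rw [mem_comap, QuotientGroup.mk'_apply, (QuotientGroup.eq_one_iff x).2 hx]; exact one_mem _
  have h2 := hmax ⟨hK.comap _, fun e => h (by
    rw [← comap_top (QuotientGroup.mk' N)] at e
    exact comap_injective (QuotientGroup.mk'_surjective N) e)⟩ h1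
  refine eq_bot_iff.2 fun x hx => ?_
  obtain ⟨y, rfl⟩ := QuotientGroup.mk'_surjective N x
  exact (QuotientGroup.eq_one_iff y).2 (h2 hx)

theorem p1_num : ∀ d ∈ Nat.divisors 1728, 2 ^ d.factorization 2 % 7 = 1 →
    3 ^ d.factorization 3 % 7 = 1 → d = 1 ∨ d = 8 ∨ d = 64 := by
  decide +kernel

theorem p1_small (hG : Nat.card G ∣ 12096) {x : G} (h : SX 7 x) (K : Subgroup G) [K.Normal]
    (hd : ¬ 7 ∣ Nat.card K) : Nat.card K = 1 ∨ Nat.card K = 8 ∨ Nat.card K = 64 := by
  have hK : x ∈ normalizer (K : Set G) := normalizer_eq_top K ▸ mem_top x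
  have hc : ∀ r : ℕ, ¬ r ∣ 7 → ∀ g ∈ K, orderOf g = r → g * x ≠ x * g := fun r hr g _ hg e => by
    have := orderOf_dvd_natCard _ (h.mem e)
    rw [hg, h.card] at this
    exact hr this
  have h3 : Nat.card K ∣ 7 * 1728 := (card_subgroup_dvd_card K).trans hG
  have h4 := ((Nat.Prime.coprime_iff_not_dvd h.prime).2 hd).symm.dvd_of_dvd_mul_left h3
  exact p1_num _ (Nat.mem_divisors.2 ⟨h4, by norm_num⟩)
    (pow_mod_eq_one h.prime Nat.prime_two h.ord hK hd (hc 2 (by norm_num)))
    (pow_mod_eq_one h.prime Nat.prime_three h.ord hK hd (hc 3 (by norm_num)))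

theorem p1_eight (hG : Nat.card G ∣ 12096) (h3 : 9 ∣ Nat.card G) (h9 : ∀ g : G, orderOf g ≠ 9)
    {x : G} (h : SX 7 x) (K : Subgroup G) [K.Normal] (hK : Nat.card K = 8) : False := by
  classical
  have := Fintype.ofFinite G
  have hC : ¬ 7 ∣ Nat.card (centralizer (K : Set G)) := fun e => by
    have h1 := h.ordP.le_of_dvd e (mem_zpowers x)
    have h2 : K ≤ zpowers x := fun g hg => h.mem (h1 g hg)
    have := card_dvd_of_le h2
    rw [hK, h.card] at this
    norm_num at this
  have hC' := p1_small hG h _ hC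
  haveI := Fact.mk Nat.prime_three
  obtain ⟨P, hP⟩ := Sylow.exists_subgroup_card_pow_prime 3 (n := 2) h3
  let _ : MulAction P K := MulAction.compHom K ((MulAut.conjNormal (H := K)).comp P.subtype)
  have hfix : ∀ w : P, Nat.card (MulAction.fixedBy K w) = 2 + if w = 1 then 6 else 0 := by
    intro w
    split_ifs with hw
    · rw [hw, MulAction.fixedBy_one_eq_univ, Nat.card_congr (Equiv.Set.univ _), hK]
    have hw3 : orderOf w = 3 := by
      have h1 : orderOf w ∣ 3 ^ 2 := hP ▸ orderOf_dvd_natCard w
      obtain ⟨i, hi, e⟩ := (Nat.dvd_prime_pow Nat.prime_three).1 h1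
      have h2 := h9 w
      rw [orderOf_coe] at h2
      have h4 := orderOf_eq_one_iff.not.2 hw
      interval_cases i <;> simp_all
    have h1 := card_fixedBy_modEq' (Ω := K) Nat.prime_three (x := w) (hw3 ▸ pow_orderOf_eq_one w)
    have h2 : MulAction.fixedBy K w = ((centralizer {(w : G)}).subgroupOf K : Set K) := by
      ext k
      rw [SetLike.mem_coe, mem_subgroupOf, mem_centralizer_singleton_iff, MulAction.mem_fixedBy,
        Subtype.ext_iff]
      change (w : G) * k * (w : G)⁻¹ = k ↔ _
      rw [mul_inv_eq_iff_eq_mul, eq_comm]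
    have h4 := card_subgroup_dvd_card ((centralizer {(w : G)}).subgroupOf K)
    have h5 : Nat.card ((centralizer {(w : G)}).subgroupOf K) ≠ 8 := fun e => by
      have h6 := eq_top_of_card_eq _ (e.trans hK.symm)
      have h7 : (w : G) ∈ centralizer (K : Set G) := fun g hg =>
        mem_centralizer_singleton_iff.1 (subgroupOf_eq_top.1 h6 hg)
      have h8 := orderOf_dvd_natCard _ h7
      rw [orderOf_coe, hw3] at h8
      omega
    rw [h2] at h1 ⊢
    change Nat.card K ≡ Nat.card ((centralizer {(w : G)}).subgroupOf K) [MOD 3] at h1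
    change Nat.card ((centralizer {(w : G)}).subgroupOf K) = _
    rw [hK] at h1 h4
    have := Nat.le_of_dvd (by norm_num) h4
    unfold Nat.ModEq at h1
    generalize Nat.card ((centralizer {(w : G)}).subgroupOf K) = e at *
    interval_cases e <;> omega
  haveI := fun w : P => Fintype.ofFinite (MulAction.fixedBy K w)
  haveI := Fintype.ofFinite (MulAction.orbitRel.Quotient P K)
  have hb := MulAction.sum_card_fixedBy_eq_card_orbits_mul_card_group P K
  simp only [← Nat.card_eq_fintype_card, hfix, Finset.sum_add_distrib, Finset.sum_ite_eq',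
    Finset.mem_univ, if_true, Finset.sum_const, Finset.card_univ, hP, smul_eq_mul] at hb
  omega

theorem p1_SX (hG : Nat.card G = 12096) (h14 : ∀ g : G, orderOf g ≠ 14)
    (h21 : ∀ g : G, orderOf g ≠ 21) {x : G} (hx : orderOf x = 7) : SX 7 x := by
  refine ⟨by norm_num, hx,
    (eq_of_le_of_card_ge (zpowers_le.2 (mem_centralizer_singleton_iff.2 rfl)) ?_).symm⟩
  have := Fact.mk (show Nat.Prime 7 by norm_num)
  have h1 : IsPGroup 7 (centralizer ({x} : Set G)) := by
    refine IsPGroup.iff_card.2
      ⟨_, Nat.eq_prime_pow_of_unique_prime_dvd Nat.card_pos.ne' fun {r} hr e => ?_⟩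
    by_contra hne
    obtain ⟨t, ht⟩ := exists_prime_orderOf_dvd_card' (hp := ⟨hr⟩) r e
    have hc : Commute (t : G) x := mem_centralizer_singleton_iff.1 t.2
    have h2 := hc.orderOf_mul_eq_mul_orderOf_of_coprime (by
      rw [orderOf_coe, ht, hx]; exact (Nat.coprime_primes hr this.out).2 hne)
    rw [orderOf_coe, ht, hx] at h2
    have h3 : r ∣ 2 ^ 6 * 3 ^ 3 * 7 := by
      have := e.trans (card_subgroup_dvd_card _)
      rwa [hG] at this
    rcases (Nat.Prime.dvd_mul hr).1 h3 with h4 | h4
    · rcases (Nat.Prime.dvd_mul hr).1 h4 with h5 | h5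
      · obtain rfl := (Nat.prime_dvd_prime_iff_eq hr Nat.prime_two).1 (hr.dvd_of_dvd_pow h5)
        exact h14 _ h2
      · obtain rfl := (Nat.prime_dvd_prime_iff_eq hr Nat.prime_three).1 (hr.dvd_of_dvd_pow h5)
        exact h21 _ h2
    · exact hne ((Nat.prime_dvd_prime_iff_eq hr this.out).1 h4)
  exact Nat.le_of_dvd Nat.card_pos
    ((sylow_data (m := 1728) this.out hG (by norm_num) hx).1.card_dvd h1 le_top)

theorem partI {G : Type*} [Group G] [Finite G] (hG : Nat.card G = 12096)
    (h14 : ∀ g : G, orderOf g ≠ 14) (h21 : ∀ g : G, orderOf g ≠ 21)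
    (h9 : ∀ g : G, orderOf g ≠ 9) : ∃ L : Subgroup G, L.Normal ∧ IsSimpleGroup L ∧
      Nat.card L = 6048 ∧ Subgroup.centralizer (L : Set G) = ⊥ := by
  have := Fintype.ofFinite G
  have hp := Fact.mk (show Nat.Prime 7 by norm_num)
  obtain ⟨x, hx⟩ := exists_prime_orderOf_dvd_card' (G := G) 7 (by rw [hG]; norm_num)
  have h := p1_SX hG h14 h21 hx
  have h2 := h.card_G
  have h3 := relIndex_dvd h.prime h.ord
  have h4 := (sylow_data (m := 1728) h.prime hG (by norm_num) h.ord).2.1
  rw [h.cent'] at h3
  have h5 : (zpowers x).relIndex (normalizer (zpowers x : Set G)) = 6 := by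
    have := Nat.le_of_dvd (by norm_num) h3
    generalize (zpowers x).relIndex (normalizer (zpowers x : Set G)) = e at *
    interval_cases e <;> omega
  have hd : 7 ∣ Nat.card (commutator G) := by
    by_contra e
    have := relIndex_eq_one.2 (h.not_dvd_iff.1 e)
    omega
  have h6 := h.index_dvd hd
  have h7 := (commutator G).card_mul_index
  rw [h5] at h6
  rw [hG] at h7
  have h8 : Nat.card (commutator G) = 12096 ∨ Nat.card (commutator G) = 6048 ∨
      Nat.card (commutator G) = 4032 ∨ Nat.card (commutator G) = 2016 := by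
    have := Nat.le_of_dvd (by norm_num) h6
    generalize (commutator G).index = e at *
    interval_cases e <;> omega
  have hxL := h.ordP.le_of_dvd hd (mem_zpowers x)
  have h' := h.sub hxL
  have hL : Nat.card (commutator G) ∣ 12096 := hG ▸ card_subgroup_dvd_card _
  haveI : Nontrivial (commutator G) := ⟨_, 1, h'.ne_one⟩
  obtain ⟨M, hM, hS⟩ := p1_quot (G := commutator G)
  have hM7 : ¬ 7 ∣ Nat.card M := fun e => by
    have g1 := h'.commutator_le e
    have g2 : derivedSeries G 2 ≠ commutator G := fun e' => by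
      have g3 : Nat.card (_root_.commutator (commutator G)) = Nat.card (derivedSeries G 2) := by
        rw [← card_map_of_injective (commutator G).subtype_injective, map_subtype_commutator,
          derivedSeries_succ, derivedSeries_one]
      rw [e'] at g3
      have g4 := eq_top_of_card_eq _ g3
      rw [g4, top_le_iff] at g1
      exact QuotientGroup.nontrivial_iff.1 hS.toNontrivial g1
    obtain ⟨g3, g4⟩ := h.derived hd g2
    have := p1_small hG.dvd h _ g3
    omega
  have hq := card_eq_card_quotient_mul_card_subgroup M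
  have k1 := Perm.Sieve.card_ne (G := commutator G ⧸ M) (n := 12096) (1, 7, 120)
    (by decide +kernel) (by norm_num)
  have k2 := Perm.Sieve.card_ne (G := commutator G ⧸ M) (n := 4032) (1, 7, 120)
    (by decide +kernel) (by norm_num)
  have k3 := Perm.Sieve.card_ne (G := commutator G ⧸ M) (n := 2016) (1, 7, 120)
    (by decide +kernel) (by norm_num)
  have k4 := Perm.Sieve.card_ne (G := commutator G ⧸ M) (n := 189) (1, 7, 120)
    (by decide +kernel) (by norm_num)
  have k5 := Perm.Sieve.card_ne (G := commutator G ⧸ M) (n := 63) (1, 7, 120)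
    (by decide +kernel) (by norm_num)
  have k6 : Nat.card M ≠ 8 := p1_eight hL (by omega) (fun g => orderOf_coe g ▸ h9 g) h' M
  have hM1 : Nat.card M = 1 ∧ Nat.card (commutator G) = 6048 := by
    rcases p1_small hL h' M hM7 with e | e | e
    · rw [e] at hq; omega
    · exact absurd e k6
    · rw [e] at hq; omega
  obtain rfl := card_eq_one.1 hM1.1
  have hs : IsSimpleGroup (commutator G) :=
    (QuotientGroup.quotientBot (G := commutator G)).symm.isSimpleGroup
  refine ⟨commutator G, inferInstance, hs, hM1.2, ?_⟩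
  by_contra hne
  have g1 : centralizer (commutator G : Set G) ≤ zpowers x := fun g hg =>
    h.mem (hg x hxL).symm
  have g2 := card_dvd_of_le g1
  rw [h.card] at g2
  have g3 := ((Nat.dvd_prime h.prime).1 g2).resolve_left (card_eq_one.not.2 hne)
  have g4 := h.ordP.le_of_dvd g3.symm.dvd (mem_zpowers x)
  have g5 : commutator G ≤ zpowers x := fun g hg => h.mem (g4 g hg)
  have := card_dvd_of_le g5
  rw [hM1.2, h.card] at this
  norm_num at this

end Cfsg.Agent.U33
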