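import Mathlib
import Cfsg.Agent.U33.B
import Cfsg.Agent.U33.P1
import Cfsg.Agent.U33.P3
import Cfsg.Agent.U33.P4
import Cfsg.Agent.U33.P5

/-! Groups of order `12096` with a simple subgroup of index two. -/

set_option autoImplicit false

namespace Cfsg.Agent.U33

open Subgroup

theorem of_simple {G : Type*} [Group G] [Finite G] (hG : Nat.card G = 12096) (h9 : ∀ g : G, orderOf g ≠ 9)
    (L : Subgroup G) [L.Normal] (hs : IsSimpleGroup L) (hL : Nat.card L = 6048)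
    (hC : centralizer (L : Set G) = ⊥) : Nonempty (G ≃* E0) ∧ ∀ g : G, orderOf g ≠ 14 := by
  have := Fact.mk Nat.prime_three
  have h9' : ∀ g : L, orderOf g ≠ 9 := fun g => orderOf_coe g ▸ h9 g
  obtain ⟨v, hv⟩ := exists_cv hL h9'
  obtain ⟨Q⟩ : Nonempty (Sylow 3 L) := inferInstance
  have hN := hv.index28 h9' Q
  obtain ⟨x, hx⟩ := exists_ti hL Q
  obtain ⟨R, o, h⟩ := toTT hG L hs hL hC Q h9 (hv.nc h9' Q hN) hN x hx
  obtain ⟨ι, u, κ, τ, hc⟩ := h.exists_cc
  exact ⟨hc.equiv, hc.no14 hG⟩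

end Cfsg.Agent.U33
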