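import Cfsg.Agent.Core.Reg
import Cfsg.Agent.Comp.TC

set_option autoImplicit false
set_option maxRecDepth 100000

namespace Cfsg.Agent.U33
open Cfsg.Agent.Comp Cfsg.Agent.Core

def RDQ : List (List Nat) :=
  [[0, 1],
   [1, 0],
   [2, 3],
   [3, 2],
   [0, 0, 0],
   [2, 2, 2],
   [0, 0, 2, 1, 3, 1, 2, 0, 3, 1],
   [2, 0, 2, 1, 3, 3, 2, 0, 3, 1]]

namespace TCDQ

noncomputable def t0 : Tr := (Tr.node (nat_lit 0) (Tr.leaf (nat_lit 0x605bfff086826600580e06157fff01a42a302740156057fff08a025c00540de4153fff0874068026c0144053fff098806700500dc414ffff019825f0264013404ffff0194264004c0da434bfff025c0120190063424bfff00480d801880614347fff0254011018005f4247fff00440d6017805d2343fff024c010017005b2243fff00400d401680592143fff016005702440102043fff015805500400d20003fff01500530148051))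
(Tr.leaf (nat_lit 0x3fffffffffffffffff0003fffffffffffffffff0003fffffffffffffffff0003fffffffffffffffff0003fffffffffffffffff8283fff00801a104a00a5837bfff0b8c01e02983276273fff00701dd069416a626ffff006c2a20da42a6636bfff0a7c01a0b9c0e96367fff089001903a81e86163fff08641e5028c0186063fff09782a900600e4615ffff099c21b0284017605ffff07a8220005c0e2615bfff078406a027c016)))

noncomputable def T : Tr := t0

def RT : List (List (List Nat)) := [
  [[nat_lit 3, nat_lit 0, nat_lit 2, nat_lit 1, nat_lit 3, nat_lit 2, nat_lit 2, nat_lit 0, nat_lit 3],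
   [nat_lit 3, nat_lit 1, nat_lit 2, nat_lit 0, nat_lit 3, nat_lit 1, nat_lit 0, nat_lit 0, nat_lit 2],
   [nat_lit 3, nat_lit 2, nat_lit 2, nat_lit 0, nat_lit 3, nat_lit 1, nat_lit 3, nat_lit 0, nat_lit 2]],
  [[nat_lit 0, nat_lit 0],
   [nat_lit 2, nat_lit 0, nat_lit 3, nat_lit 1, nat_lit 1, nat_lit 0, nat_lit 2, nat_lit 1, nat_lit 3],
   [nat_lit 3, nat_lit 1, nat_lit 0, nat_lit 0, nat_lit 2, nat_lit 1, nat_lit 3, nat_lit 1, nat_lit 2]],
  [[nat_lit 1, nat_lit 0, nat_lit 0, nat_lit 2, nat_lit 1, nat_lit 3, nat_lit 1, nat_lit 2, nat_lit 0],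
   [nat_lit 0, nat_lit 2, nat_lit 0, nat_lit 3, nat_lit 1, nat_lit 1, nat_lit 0, nat_lit 2, nat_lit 1],
   [nat_lit 1, nat_lit 1, nat_lit 0, nat_lit 2, nat_lit 1, nat_lit 3, nat_lit 0, nat_lit 2, nat_lit 0],
   [nat_lit 1, nat_lit 3, nat_lit 0, nat_lit 2, nat_lit 1, nat_lit 3, nat_lit 2, nat_lit 2, nat_lit 0],
   [nat_lit 3, nat_lit 3]],
  [[nat_lit 2, nat_lit 2],
   [nat_lit 0, nat_lit 3, nat_lit 1, nat_lit 3, nat_lit 0, nat_lit 2, nat_lit 1, nat_lit 3, nat_lit 2]],
  []]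

def HT : List (List (Nat × Nat × Nat)) := [
  [(1, 7, 9), (0, 6, 4), (1, 7, 3)],
  [(0, 4, 0), (1, 6, 5), (0, 6, 8)],
  [(0, 6, 9), (1, 6, 4), (1, 6, 8), (1, 7, 8), (1, 5, 0)],
  [(0, 5, 0), (1, 7, 6)],
  []]

noncomputable def P : Par := ⟨T, (nat_lit 4), (nat_lit 15), (nat_lit 84), (nat_lit 14), (nat_lit 16383), (nat_lit 6), (nat_lit 63), (nat_lit 4), (nat_lit 43), (nat_lit 48), (nat_lit 0xa410c01), RT⟩

noncomputable def J0 : List Nat := [
  nat_lit 0x222006280080221022820088408a08022102282220062800888018a08222006280088e61,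
  nat_lit 0x22820888018aa822398629a08110102202c08842910c7101514421084210842108421084210842108421]

theorem c0 : chk T (nat_lit 4) (nat_lit 15) (nat_lit 84) (nat_lit 14) (nat_lit 16383) (nat_lit 6) (nat_lit 63) (nat_lit 4) (nat_lit 43) (nat_lit 48) (nat_lit 0xa410c01) (nat_lit 3) (nat_lit 7) RT (nat_lit 16) J0 (nat_lit 16) = true := by
  decide +kernel

theorem r0 : P.RowsOK 16 48 := chk_sound P _ _ _ J0 _ _ (by decide +kernel) c0

theorem index.{u} : IndexLe.{u} 4 RDQ [] 27 :=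
  indexLe_of_cert P HT (by decide +kernel)
    (show P.RowsOK 16 48 from r0)

end TCDQ

def DQT0 : Nat := nat_lit 0x56fab6708a1e46815c460d538bdab48041

def DQT1 : Nat := nat_lit 0x62d5cdf53444ef334ab22474941cc50402

def DQT2 : Nat := nat_lit 0x45cd92935cae1ab4d98bbe82404c021ca3

def DQT3 : Nat := nat_lit 0x426c5be8975f515670d95aa711423020c4

def DQW : Nat := nat_lit 0x324142310324031404230413024201420232013202410141023101310024001400230013004200320041003100040003000200010000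

def DQI : Nat := nat_lit 0x6757c56cd8be6e94285399095a98320440

def DQ : RTab := ⟨nat_lit 4, nat_lit 27, nat_lit 5, nat_lit 31, [DQT0, DQT1, DQT2, DQT3], nat_lit 4, nat_lit 16, nat_lit 65535, DQW, DQI, RDQ⟩

instance : Fact DQ.OK := ⟨RTab.OK.of_checks _ (by decide +kernel) (by decide +kernel) TCDQ.index
  (by decide +kernel) (by decide +kernel) (by decide +kernel) (by decide +kernel)⟩

def qa : El DQ := ⟨nat_lit 1, by decide +kernel⟩
def qb : El DQ := ⟨nat_lit 3, by decide +kernel⟩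

def tb (W i : Nat) : Nat := Nat.land (Nat.shiftRight W (Nat.mul (nat_lit 5) i)) (nat_lit 31)
def mq (h p : Nat) : Nat := tb (nat_lit 0xde41608aeb215d340d4f31e4c6d1308e2bad8342ae02682464644e8a34af52e5375af9dd85700724639a8a292684a2b2cc6f3d758d86a0c684f3292b24a33439b01b0f42e6d7d8b01d541078d4c59e54995c6492286df36ddc39102cc5b4b49a4707c4e47214696b15dacd3411ed960297541156843c9ec5bc194d9208a30c58d4036e8474e02ab4aeecbd73d95236c4f60be9702e1914d9a2611533952db86a29e5701a79111f60a1786569a83531dcc8f321721872e382ca28aedc26b1d3290da18685091502cd90ae970725a8f47c2e6fd8e274b4a1d5080c4102ab0d67dd799aa4eda8f2195c0c4d82abe81d2e17364964262ddbd0b21a636e7074daa58df520b80a1520cd9a846410a2dab21df4e3e711034490cdebd9da58a47ab11f8ba175c9a61a0202649cadc8ae38d58bb0d5cd09ab4100989e15c5a9db1f49ae0e3e84a2e0321d409bc72db1888db54974a39141160b0d7050955ea7879467dd1707cd8748ae588723682ced2b12a9106da651539a2aa161d1a60c11f985997a0ce5dc26c5be8975f515670d95aa711423020c4dc5cd92935cae1ab4d98bbe82404c021ca3de2d5cdf53444ef334ab22474941cc50402dd6fab6708a1e46815c460d538bdab48041deb38bdab49ca307b9ac5a928398a418820)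 (Nat.add (Nat.mul (nat_lit 28) h) p)
def ak (m p : Nat) : Nat := tb (nat_lit 0xdeb275b682945e99a030c5464bd9c5628c0de74f930a68de6ec41565b4223d2a322120deb3389069b9f155d91493146795a1141c0de758b882e3bd6d952058910998d8a35aa0deb2b399557ce4c896c3b8a0ec04884d1a0de7527a50d9e224b8e8139ad55a85071580deb319ba0cc2ee2384aa7a68d920d6a8c80de757c56c45c8e67a8689b8ac8c13468440de74b3d1a5c46f69d584921d07a46209940deb32795835dcf4c34828c2b69b82652500de75198c8191de55b046bd9b4c554943a00deb37c044a8be63910c93d1855b50e856c0de7475a8c8bcf018892e7948393215b3680deb2f921303e16ab99d598c41892cda30a0de7538c1d67ae483a6adc04cab8a8c29060deb38bdab49ca307b9ac5a928398a418820) (Nat.add (Nat.mul (nat_lit 28) m) p)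
def km (i j : Nat) : Nat := tb (nat_lit 0x204c301447625cb4354f180a2390265a1aa7b12e11c8130c0553d8972d0d09860288e44b9686a9ec01447204c34354f625cb39026180a27b12e5a1aa30c0511c8172d0d53d89288e4098606a9ec4b9687358b5250f31483104076b16a4a1ee29062080e662d4943dcd20c4101cc55a9287b9ac18820398a45250f7358b10407314834a1ee6b16a080e62906243dcd62d4901cc520c417b9ac5a928398a418820) (Nat.add (Nat.mul (nat_lit 16) i) j)
def ki (i : Nat) : Nat := tb (nat_lit 0x5b92c7a9a808864298e0) i
def orR (p : Nat) : Nat := tb (nat_lit 0x20c62104211084110421104211042108420) p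
def orM (p : Nat) : Nat := tb (nat_lit 0x4050918330c453b56a21dc603c490a000) p
def t0 (p : Nat) : Nat := tb (nat_lit 0x6757c39429be2c958b05d4663a1a14d09b) p

def itr (f : Nat → Nat) (n x : Nat) : Nat := Nat.rec (motive := fun _ => Nat) x (fun _ ih => f ih) n
def img (i j m x : Nat) : Nat := itr (ak i) (Nat.mod m 8) (cond (Nat.ble 8 m) (ak j x) x)
def sel (r x1 x2 x3 : Nat) : Nat := cond (Nat.beq r 0) 27 (cond (Nat.beq r 1) x1 (cond (Nat.beq r 2) x2
  (cond (Nat.beq r 3) x3 0)))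
def rp (r : Nat) : Nat := [0, 1, 7, 25, 27].getD r 0
def bld (i j x1 x2 x3 p : Nat) : Nat := img i j (orM p) (sel (orR p) x1 x2 x3)
noncomputable def okf (i j r x : Nat) : Bool := RTab.allN (fun m => Nat.beq (ak m r) r == Nat.beq (img i j m x) x) 16
noncomputable def ncond (T : Nat → Nat) : Bool := RTab.allN (fun c => !Nat.beq (mq (T 1) (T c)) 0 || RTab.allN (fun m =>
  !RTab.allN (fun p => Nat.beq (T (mq 1 (T p))) (mq (T 1) (T (mq c (ak m p))))) 28) 16) 27
noncomputable def nres (T : Nat → Nat) : Bool := RTab.allN (fun m => !RTab.allN (fun p => Nat.beq (T p) (ak m (t0 p))) 28) 16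

theorem brute : RTab.allN (fun i => RTab.allN (fun j => RTab.allN (fun x1 => !okf i j 1 x1 ||
    RTab.allN (fun x2 => !okf i j 7 x2 || RTab.allN (fun x3 => !okf i j 25 x3 ||
      (ncond (bld i j x1 x2 x3) || !nres (bld i j x1 x2 x3))) 28) 28) 28) 16) 16 = true := by decide +kernel

theorem mq_lt : ∀ h < 27, ∀ p < 28, mq h p < 28 := by decide +kernel
theorem ak_lt : ∀ m < 16, ∀ p < 28, ak m p < 28 := by decide +kernel
theorem ak_lt' : ∀ m < 16, ∀ p < 27, ak m p < 27 := by decide +kernel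
theorem ak_zero : ∀ m < 16, ak m 0 = 0 ∧ ak m 27 = 27 := by decide +kernel
theorem mq_zero : ∀ m < 27, mq m 0 = m ∧ mq m 27 = 27 := by decide +kernel
theorem ak_img : ∀ m < 16, ∀ p < 28, ak m p = img 1 8 m p := by decide +kernel
theorem orb_spec : ∀ p < 28, orM p < 16 ∧ orR p < 5 ∧ rp (orR p) < 28 ∧ ak (orM p) (rp (orR p)) = p := by
  decide +kernel
theorem km_spec : ∀ i < 16, ∀ j < 16, km i j < 16 ∧ ∀ p < 28, ak i (ak j p) = ak (km i j) p := by decide +kernel
theorem ki_spec : ∀ i < 16, ki i < 16 ∧ ∀ p < 28, ak (ki i) (ak i p) = p ∧ ak i (ak (ki i) p) = p := by decide +kernel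
theorem ak_pow : ∀ i < 16, ∀ p < 28, itr (ak i) 8 p = p := by decide +kernel
theorem ak_inj : ∀ i < 16, ∀ j < 16, (∀ p < 27, ak i p = ak j p) → i = j := by decide +kernel
theorem mul_v : ∀ x y : El DQ, (x * y).v = mq x.v y.v := by decide +kernel
theorem ak_mq : ∀ i < 16, ∀ x < 27, ∀ y < 27, ak i (mq x y) = mq (ak i x) (ak i y) := by decide +kernel
theorem t0_lt : ∀ p < 28, t0 p < 28 := by decide +kernel

end Cfsg.Agent.U33
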